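import Mathlib

/-!
# Nine sparse matrices generating the 78-dimensional representation of Fi22 over thirteen elements

Found by search among the 3510 transposition matrices built from the monomial representation of 2^10:M22.
-/

set_option autoImplicit false

namespace CfsgLib.Recog.SporBound.Fi22Mat

/-- generator 0 -/
def mat0 : List (List (ℕ × ℕ)) := [
  [(0,6), (48,11)],
  [(1,6), (8,7), (38,6), (62,7)],
  [(2,6), (11,7), (29,7), (67,6)],
  [(3,6), (12,7), (20,7), (70,6)],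
  [(4,6), (10,6), (39,6), (60,6)],
  [(5,6), (22,6), (33,7), (58,7)],
  [(6,6), (25,7), (32,6), (59,7)],
  [(7,3), (9,3), (13,10), (21,10), (23,3), (24,3), (30,10), (31,3), (34,3), (40,10), (57,10), (61,3), (63,3), (66,10), (69,10), (72,10)],
  [(1,7), (8,6), (38,6), (62,7)],
  [(7,3), (9,3), (13,3), (21,3), (23,3), (24,3), (30,3), (31,3), (34,3), (40,3), (57,3), (61,3), (63,3), (66,3), (69,3), (72,3)],
  [(4,6), (10,6), (39,7), (60,7)],
  [(2,7), (11,6), (29,7), (67,6)],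
  [(3,7), (12,6), (20,7), (70,6)],
  [(7,10), (9,3), (13,3), (21,3), (23,3), (24,10), (30,3), (31,3), (34,10), (40,10), (57,3), (61,3), (63,10), (66,10), (69,10), (72,10)],
  [(14,6), (26,7), (37,7), (64,6)],
  [(15,6), (27,6), (35,7), (65,7)],
  [(16,6), (18,7), (28,7), (71,6)],
  [(17,6), (19,6), (36,6), (68,6)],
  [(16,7), (18,6), (28,7), (71,6)],
  [(17,6), (19,6), (36,7), (68,7)],
  [(3,7), (12,7), (20,6), (70,6)],
  [(7,10), (9,3), (13,3), (21,3), (23,3), (24,10), (30,10), (31,10), (34,3), (40,3), (57,10), (61,10), (63,3), (66,3), (69,10), (72,10)],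
  [(5,6), (22,6), (33,6), (58,6)],
  [(7,3), (9,3), (13,3), (21,3), (23,3), (24,3), (30,10), (31,10), (34,10), (40,10), (57,10), (61,10), (63,10), (66,10), (69,3), (72,3)],
  [(7,3), (9,3), (13,10), (21,10), (23,3), (24,3), (30,3), (31,10), (34,10), (40,3), (57,3), (61,10), (63,10), (66,3), (69,10), (72,10)],
  [(6,7), (25,6), (32,6), (59,7)],
  [(14,7), (26,6), (37,7), (64,6)],
  [(15,6), (27,6), (35,6), (65,6)],
  [(16,7), (18,7), (28,6), (71,6)],
  [(2,7), (11,7), (29,6), (67,6)],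
  [(7,10), (9,3), (13,3), (21,10), (23,10), (24,3), (30,3), (31,3), (34,10), (40,3), (57,10), (61,10), (63,3), (66,10), (69,3), (72,10)],
  [(7,3), (9,3), (13,3), (21,10), (23,10), (24,10), (30,3), (31,3), (34,3), (40,10), (57,10), (61,10), (63,10), (66,3), (69,10), (72,3)],
  [(6,6), (25,6), (32,6), (59,6)],
  [(5,7), (22,6), (33,6), (58,7)],
  [(7,3), (9,3), (13,10), (21,3), (23,10), (24,10), (30,10), (31,3), (34,3), (40,3), (57,3), (61,10), (63,10), (66,10), (69,3), (72,10)],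
  [(15,7), (27,6), (35,6), (65,7)],
  [(17,6), (19,7), (36,6), (68,7)],
  [(14,7), (26,7), (37,6), (64,6)],
  [(1,6), (8,6), (38,6), (62,6)],
  [(4,6), (10,7), (39,6), (60,7)],
  [(7,10), (9,3), (13,10), (21,3), (23,10), (24,3), (30,3), (31,10), (34,3), (40,3), (57,10), (61,3), (63,10), (66,10), (69,10), (72,3)],
  [(41,6), (50,7), (54,6), (74,7)],
  [(42,6), (52,7), (53,7), (73,6)],
  [(43,6), (46,6), (51,6), (77,6)],
  [(44,6), (45,7), (55,7), (76,6)],
  [(44,7), (45,6), (55,7), (76,6)],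
  [(43,6), (46,6), (51,7), (77,7)],
  [(47,6), (49,7), (56,6), (75,7)],
  [(0,11), (48,7)],
  [(47,7), (49,6), (56,6), (75,7)],
  [(41,7), (50,6), (54,6), (74,7)],
  [(43,6), (46,7), (51,6), (77,7)],
  [(42,7), (52,6), (53,7), (73,6)],
  [(42,7), (52,7), (53,6), (73,6)],
  [(41,6), (50,6), (54,6), (74,6)],
  [(44,7), (45,7), (55,6), (76,6)],
  [(47,6), (49,6), (56,6), (75,6)],
  [(7,10), (9,3), (13,3), (21,10), (23,10), (24,3), (30,10), (31,10), (34,3), (40,10), (57,3), (61,3), (63,10), (66,3), (69,3), (72,10)],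
  [(5,7), (22,6), (33,7), (58,6)],
  [(6,7), (25,7), (32,6), (59,6)],
  [(4,6), (10,7), (39,7), (60,6)],
  [(7,3), (9,3), (13,3), (21,10), (23,10), (24,10), (30,10), (31,10), (34,10), (40,3), (57,3), (61,3), (63,3), (66,10), (69,10), (72,3)],
  [(1,7), (8,7), (38,6), (62,6)],
  [(7,3), (9,3), (13,10), (21,3), (23,10), (24,10), (30,3), (31,10), (34,10), (40,10), (57,10), (61,3), (63,3), (66,3), (69,3), (72,10)],
  [(14,6), (26,6), (37,6), (64,6)],
  [(15,7), (27,6), (35,7), (65,6)],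
  [(7,10), (9,3), (13,10), (21,3), (23,10), (24,3), (30,10), (31,3), (34,10), (40,10), (57,3), (61,10), (63,3), (66,3), (69,10), (72,3)],
  [(2,6), (11,6), (29,6), (67,6)],
  [(17,6), (19,7), (36,7), (68,6)],
  [(7,10), (9,3), (13,10), (21,10), (23,3), (24,10), (30,3), (31,10), (34,3), (40,10), (57,3), (61,10), (63,3), (66,10), (69,3), (72,3)],
  [(3,6), (12,6), (20,6), (70,6)],
  [(16,6), (18,6), (28,6), (71,6)],
  [(7,10), (9,3), (13,10), (21,10), (23,3), (24,10), (30,10), (31,3), (34,10), (40,3), (57,10), (61,3), (63,10), (66,3), (69,3), (72,3)],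
  [(42,6), (52,6), (53,6), (73,6)],
  [(41,7), (50,7), (54,6), (74,6)],
  [(47,7), (49,7), (56,6), (75,6)],
  [(44,6), (45,6), (55,6), (76,6)],
  [(43,6), (46,7), (51,7), (77,6)]]

/-- generator 1 -/
def mat1 : List (List (ℕ × ℕ)) := [
  [(0,1)],
  [(1,12)],
  [(2,12)],
  [(3,12)],
  [(4,12)],
  [(5,12)],
  [(6,12)],
  [(7,1)],
  [(8,1)],
  [(9,1)],
  [(10,1)],
  [(11,12)],
  [(12,12)],
  [(13,12)],
  [(14,12)],
  [(15,12)],
  [(16,12)],
  [(17,12)],
  [(18,1)],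
  [(19,1)],
  [(20,1)],
  [(21,1)],
  [(22,12)],
  [(23,12)],
  [(24,12)],
  [(25,12)],
  [(26,1)],
  [(27,12)],
  [(28,12)],
  [(29,1)],
  [(30,1)],
  [(31,12)],
  [(32,12)],
  [(33,12)],
  [(34,12)],
  [(35,1)],
  [(36,12)],
  [(37,12)],
  [(38,12)],
  [(39,12)],
  [(40,12)],
  [(41,12)],
  [(42,12)],
  [(43,12)],
  [(44,12)],
  [(45,1)],
  [(46,1)],
  [(47,12)],
  [(48,12)],
  [(49,12)],
  [(50,1)],
  [(51,12)],
  [(52,12)],
  [(53,1)],
  [(54,12)],
  [(55,12)],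
  [(56,12)],
  [(57,1)],
  [(58,1)],
  [(59,1)],
  [(60,12)],
  [(61,12)],
  [(62,12)],
  [(63,12)],
  [(64,12)],
  [(65,12)],
  [(66,12)],
  [(67,12)],
  [(68,12)],
  [(69,12)],
  [(70,12)],
  [(71,12)],
  [(72,1)],
  [(73,12)],
  [(74,12)],
  [(75,1)],
  [(76,12)],
  [(77,12)]]

/-- generator 2 -/
def mat2 : List (List (ℕ × ℕ)) := [
  [(0,6), (71,11)],
  [(1,3), (6,10), (8,3), (9,3), (12,10), (13,3), (20,3), (21,10), (23,10), (25,3), (42,3), (44,10), (45,10), (46,3), (51,10), (52,10)],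
  [(2,6), (10,7), (22,6), (41,7)],
  [(3,6), (7,7), (24,7), (43,6)],
  [(4,6), (5,6), (11,6), (50,6)],
  [(4,6), (5,6), (11,7), (50,7)],
  [(1,10), (6,3), (8,3), (9,3), (12,3), (13,10), (20,10), (21,3), (23,10), (25,3), (42,10), (44,3), (45,10), (46,3), (51,10), (52,10)],
  [(3,7), (7,6), (24,7), (43,6)],
  [(1,3), (6,3), (8,3), (9,3), (12,3), (13,3), (20,10), (21,10), (23,10), (25,10), (42,10), (44,10), (45,10), (46,10), (51,3), (52,3)],
  [(1,3), (6,3), (8,3), (9,3), (12,3), (13,3), (20,3), (21,3), (23,3), (25,3), (42,3), (44,3), (45,3), (46,3), (51,3), (52,3)],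
  [(2,7), (10,6), (22,6), (41,7)],
  [(4,6), (5,7), (11,6), (50,7)],
  [(1,10), (6,3), (8,3), (9,3), (12,3), (13,10), (20,3), (21,10), (23,3), (25,10), (42,3), (44,10), (45,3), (46,10), (51,10), (52,10)],
  [(1,3), (6,10), (8,3), (9,3), (12,10), (13,3), (20,10), (21,3), (23,3), (25,10), (42,10), (44,3), (45,3), (46,10), (51,10), (52,10)],
  [(14,6), (19,7), (27,6), (47,7)],
  [(15,6), (17,6), (26,7), (49,7)],
  [(16,6), (18,7), (28,7), (48,6)],
  [(15,6), (17,6), (26,6), (49,6)],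
  [(16,7), (18,6), (28,7), (48,6)],
  [(14,7), (19,6), (27,6), (47,7)],
  [(1,3), (6,10), (8,10), (9,3), (12,3), (13,10), (20,3), (21,10), (23,3), (25,3), (42,10), (44,3), (45,10), (46,10), (51,10), (52,3)],
  [(1,10), (6,3), (8,10), (9,3), (12,10), (13,3), (20,10), (21,3), (23,3), (25,3), (42,3), (44,10), (45,10), (46,10), (51,10), (52,3)],
  [(2,6), (10,6), (22,6), (41,6)],
  [(1,10), (6,10), (8,10), (9,3), (12,3), (13,3), (20,3), (21,3), (23,3), (25,10), (42,10), (44,10), (45,10), (46,3), (51,3), (52,10)],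
  [(3,7), (7,7), (24,6), (43,6)],
  [(1,3), (6,3), (8,10), (9,3), (12,10), (13,10), (20,3), (21,3), (23,10), (25,3), (42,10), (44,10), (45,3), (46,10), (51,3), (52,10)],
  [(15,7), (17,6), (26,6), (49,7)],
  [(14,6), (19,6), (27,6), (47,6)],
  [(16,7), (18,7), (28,6), (48,6)],
  [(29,6), (33,7), (39,7), (54,6)],
  [(30,6), (31,7), (38,6), (55,7)],
  [(30,7), (31,6), (38,6), (55,7)],
  [(32,6), (34,6), (40,6), (53,6)],
  [(29,7), (33,6), (39,7), (54,6)],
  [(32,6), (34,6), (40,7), (53,7)],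
  [(35,6), (36,7), (37,7), (56,6)],
  [(35,7), (36,6), (37,7), (56,6)],
  [(35,7), (36,7), (37,6), (56,6)],
  [(30,6), (31,6), (38,6), (55,6)],
  [(29,7), (33,7), (39,6), (54,6)],
  [(32,6), (34,7), (40,6), (53,7)],
  [(2,7), (10,7), (22,6), (41,6)],
  [(1,3), (6,10), (8,10), (9,3), (12,3), (13,10), (20,10), (21,3), (23,10), (25,10), (42,3), (44,10), (45,3), (46,3), (51,10), (52,3)],
  [(3,6), (7,6), (24,6), (43,6)],
  [(1,10), (6,3), (8,10), (9,3), (12,10), (13,3), (20,3), (21,10), (23,10), (25,10), (42,10), (44,3), (45,3), (46,3), (51,10), (52,3)],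
  [(1,10), (6,10), (8,10), (9,3), (12,3), (13,3), (20,10), (21,10), (23,10), (25,3), (42,3), (44,3), (45,3), (46,10), (51,3), (52,10)],
  [(1,3), (6,3), (8,10), (9,3), (12,10), (13,10), (20,10), (21,10), (23,3), (25,10), (42,3), (44,3), (45,10), (46,3), (51,3), (52,10)],
  [(14,7), (19,7), (27,6), (47,6)],
  [(16,6), (18,6), (28,6), (48,6)],
  [(15,7), (17,6), (26,7), (49,6)],
  [(4,6), (5,7), (11,7), (50,6)],
  [(1,10), (6,10), (8,3), (9,3), (12,10), (13,10), (20,10), (21,10), (23,3), (25,3), (42,10), (44,10), (45,3), (46,3), (51,3), (52,3)],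
  [(1,10), (6,10), (8,3), (9,3), (12,10), (13,10), (20,3), (21,3), (23,10), (25,10), (42,3), (44,3), (45,10), (46,10), (51,3), (52,3)],
  [(32,6), (34,7), (40,7), (53,6)],
  [(29,6), (33,6), (39,6), (54,6)],
  [(30,7), (31,7), (38,6), (55,6)],
  [(35,6), (36,6), (37,6), (56,6)],
  [(57,6), (61,7), (62,7), (76,6)],
  [(58,6), (60,7), (67,6), (74,7)],
  [(59,6), (63,7), (66,7), (73,6)],
  [(58,7), (60,6), (67,6), (74,7)],
  [(57,7), (61,6), (62,7), (76,6)],
  [(57,7), (61,7), (62,6), (76,6)],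
  [(59,7), (63,6), (66,7), (73,6)],
  [(64,6), (65,6), (68,6), (75,6)],
  [(64,6), (65,6), (68,7), (75,7)],
  [(59,7), (63,7), (66,6), (73,6)],
  [(58,6), (60,6), (67,6), (74,6)],
  [(64,6), (65,7), (68,6), (75,7)],
  [(69,6), (70,6), (72,7), (77,7)],
  [(69,6), (70,6), (72,6), (77,6)],
  [(0,11), (71,7)],
  [(69,7), (70,6), (72,6), (77,7)],
  [(59,6), (63,6), (66,6), (73,6)],
  [(58,7), (60,7), (67,6), (74,6)],
  [(64,6), (65,7), (68,7), (75,6)],
  [(57,6), (61,6), (62,6), (76,6)],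
  [(69,7), (70,6), (72,7), (77,6)]]

/-- generator 3 -/
def mat3 : List (List (ℕ × ℕ)) := [
  [(0,1)],
  [(1,12)],
  [(2,12)],
  [(3,1)],
  [(4,1)],
  [(5,12)],
  [(6,1)],
  [(7,12)],
  [(8,12)],
  [(9,12)],
  [(10,1)],
  [(11,12)],
  [(12,1)],
  [(13,12)],
  [(14,12)],
  [(15,1)],
  [(16,12)],
  [(17,12)],
  [(18,12)],
  [(19,12)],
  [(20,1)],
  [(21,12)],
  [(22,12)],
  [(23,12)],
  [(24,12)],
  [(25,1)],
  [(26,12)],
  [(27,1)],
  [(28,12)],
  [(29,12)],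
  [(30,12)],
  [(31,12)],
  [(32,1)],
  [(33,12)],
  [(34,12)],
  [(35,1)],
  [(36,12)],
  [(37,12)],
  [(38,12)],
  [(39,1)],
  [(40,12)],
  [(41,12)],
  [(42,12)],
  [(43,12)],
  [(44,1)],
  [(45,1)],
  [(46,12)],
  [(47,12)],
  [(48,1)],
  [(49,12)],
  [(50,12)],
  [(51,12)],
  [(52,12)],
  [(53,12)],
  [(54,12)],
  [(55,1)],
  [(56,12)],
  [(57,12)],
  [(58,12)],
  [(59,1)],
  [(60,1)],
  [(61,12)],
  [(62,12)],
  [(63,12)],
  [(64,12)],
  [(65,1)],
  [(66,12)],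
  [(67,12)],
  [(68,12)],
  [(69,12)],
  [(70,1)],
  [(71,12)],
  [(72,12)],
  [(73,12)],
  [(74,12)],
  [(75,12)],
  [(76,1)],
  [(77,12)]]

/-- generator 4 -/
def mat4 : List (List (ℕ × ℕ)) := [
  [(0,6), (26,11)],
  [(1,6), (6,6), (11,6), (77,6)],
  [(2,6), (32,6), (43,6), (62,6)],
  [(3,6), (34,7), (41,7), (61,6)],
  [(4,3), (5,10), (12,10), (13,3), (31,10), (33,3), (42,3), (44,10), (54,3), (55,3), (60,10), (63,10), (69,3), (70,10), (73,10), (74,3)],
  [(4,10), (5,3), (12,3), (13,10), (31,10), (33,3), (42,10), (44,3), (54,3), (55,3), (60,10), (63,10), (69,10), (70,3), (73,10), (74,3)],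
  [(1,6), (6,6), (11,7), (77,7)],
  [(7,6), (10,7), (53,7), (57,6)],
  [(8,6), (29,6), (46,6), (59,6)],
  [(9,6), (30,7), (45,7), (58,6)],
  [(7,7), (10,6), (53,7), (57,6)],
  [(1,6), (6,7), (11,6), (77,7)],
  [(4,10), (5,3), (12,3), (13,10), (31,3), (33,10), (42,3), (44,10), (54,3), (55,3), (60,10), (63,10), (69,3), (70,10), (73,3), (74,10)],
  [(4,3), (5,10), (12,10), (13,3), (31,3), (33,10), (42,10), (44,3), (54,3), (55,3), (60,10), (63,10), (69,10), (70,3), (73,3), (74,10)],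
  [(14,6), (37,7), (48,7), (64,6)],
  [(15,6), (17,6), (49,7), (71,7)],
  [(16,6), (36,6), (47,6), (65,6)],
  [(15,6), (17,6), (49,6), (71,6)],
  [(18,6), (19,6), (35,6), (75,6)],
  [(18,6), (19,6), (35,7), (75,7)],
  [(20,6), (21,6), (50,7), (72,7)],
  [(20,6), (21,6), (50,6), (72,6)],
  [(22,6), (24,6), (40,6), (76,6)],
  [(23,6), (39,6), (52,6), (66,6)],
  [(22,6), (24,6), (40,7), (76,7)],
  [(25,6), (38,7), (51,7), (67,6)],
  [(0,11), (26,7)],
  [(27,6), (28,7), (56,7), (68,6)],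
  [(27,7), (28,6), (56,7), (68,6)],
  [(8,6), (29,6), (46,7), (59,7)],
  [(9,7), (30,6), (45,7), (58,6)],
  [(4,10), (5,10), (12,3), (13,3), (31,3), (33,10), (42,3), (44,3), (54,10), (55,3), (60,3), (63,10), (69,10), (70,10), (73,10), (74,3)],
  [(2,6), (32,6), (43,7), (62,7)],
  [(4,3), (5,3), (12,10), (13,10), (31,10), (33,3), (42,3), (44,3), (54,10), (55,3), (60,3), (63,10), (69,10), (70,10), (73,3), (74,10)],
  [(3,7), (34,6), (41,7), (61,6)],
  [(18,6), (19,7), (35,6), (75,7)],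
  [(16,6), (36,6), (47,7), (65,7)],
  [(14,7), (37,6), (48,7), (64,6)],
  [(25,7), (38,6), (51,7), (67,6)],
  [(23,6), (39,6), (52,7), (66,7)],
  [(22,6), (24,7), (40,6), (76,7)],
  [(3,7), (34,7), (41,6), (61,6)],
  [(4,3), (5,10), (12,3), (13,10), (31,3), (33,3), (42,3), (44,10), (54,10), (55,3), (60,10), (63,3), (69,10), (70,3), (73,10), (74,10)],
  [(2,6), (32,7), (43,6), (62,7)],
  [(4,10), (5,3), (12,10), (13,3), (31,3), (33,3), (42,10), (44,3), (54,10), (55,3), (60,10), (63,3), (69,3), (70,10), (73,10), (74,10)],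
  [(9,7), (30,7), (45,6), (58,6)],
  [(8,6), (29,7), (46,6), (59,7)],
  [(16,6), (36,7), (47,6), (65,7)],
  [(14,7), (37,7), (48,6), (64,6)],
  [(15,7), (17,6), (49,6), (71,7)],
  [(20,7), (21,6), (50,6), (72,7)],
  [(25,7), (38,7), (51,6), (67,6)],
  [(23,6), (39,7), (52,6), (66,7)],
  [(7,7), (10,7), (53,6), (57,6)],
  [(4,3), (5,3), (12,3), (13,3), (31,10), (33,10), (42,10), (44,10), (54,3), (55,3), (60,3), (63,3), (69,10), (70,10), (73,10), (74,10)],
  [(4,3), (5,3), (12,3), (13,3), (31,3), (33,3), (42,3), (44,3), (54,3), (55,3), (60,3), (63,3), (69,3), (70,3), (73,3), (74,3)],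
  [(27,7), (28,7), (56,6), (68,6)],
  [(7,6), (10,6), (53,6), (57,6)],
  [(9,6), (30,6), (45,6), (58,6)],
  [(8,6), (29,7), (46,7), (59,6)],
  [(4,10), (5,10), (12,10), (13,10), (31,3), (33,3), (42,10), (44,10), (54,3), (55,3), (60,3), (63,3), (69,10), (70,10), (73,3), (74,3)],
  [(3,6), (34,6), (41,6), (61,6)],
  [(2,6), (32,7), (43,7), (62,6)],
  [(4,10), (5,10), (12,10), (13,10), (31,10), (33,10), (42,3), (44,3), (54,3), (55,3), (60,3), (63,3), (69,3), (70,3), (73,10), (74,10)],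
  [(14,6), (37,6), (48,6), (64,6)],
  [(16,6), (36,7), (47,7), (65,6)],
  [(23,6), (39,7), (52,7), (66,6)],
  [(25,6), (38,6), (51,6), (67,6)],
  [(27,6), (28,6), (56,6), (68,6)],
  [(4,3), (5,10), (12,3), (13,10), (31,10), (33,10), (42,10), (44,3), (54,10), (55,3), (60,10), (63,3), (69,3), (70,10), (73,3), (74,3)],
  [(4,10), (5,3), (12,10), (13,3), (31,10), (33,10), (42,3), (44,10), (54,10), (55,3), (60,10), (63,3), (69,10), (70,3), (73,3), (74,3)],
  [(15,7), (17,6), (49,7), (71,6)],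
  [(20,7), (21,6), (50,7), (72,6)],
  [(4,10), (5,10), (12,3), (13,3), (31,10), (33,3), (42,10), (44,10), (54,10), (55,3), (60,3), (63,10), (69,3), (70,3), (73,3), (74,10)],
  [(4,3), (5,3), (12,10), (13,10), (31,3), (33,10), (42,10), (44,10), (54,10), (55,3), (60,3), (63,10), (69,3), (70,3), (73,10), (74,3)],
  [(18,6), (19,7), (35,7), (75,6)],
  [(22,6), (24,7), (40,7), (76,6)],
  [(1,6), (6,7), (11,7), (77,6)]]

/-- generator 5 -/
def mat5 : List (List (ℕ × ℕ)) := [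
  [(0,1)],
  [(1,12)],
  [(2,1)],
  [(3,12)],
  [(4,1)],
  [(5,1)],
  [(6,12)],
  [(7,12)],
  [(8,12)],
  [(9,12)],
  [(10,1)],
  [(11,1)],
  [(12,12)],
  [(13,12)],
  [(14,12)],
  [(15,12)],
  [(16,1)],
  [(17,12)],
  [(18,1)],
  [(19,12)],
  [(20,12)],
  [(21,12)],
  [(22,1)],
  [(23,12)],
  [(24,12)],
  [(25,12)],
  [(26,12)],
  [(27,12)],
  [(28,1)],
  [(29,1)],
  [(30,12)],
  [(31,12)],
  [(32,12)],
  [(33,1)],
  [(34,12)],
  [(35,12)],
  [(36,12)],
  [(37,12)],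
  [(38,12)],
  [(39,1)],
  [(40,12)],
  [(41,1)],
  [(42,12)],
  [(43,12)],
  [(44,12)],
  [(45,12)],
  [(46,12)],
  [(47,12)],
  [(48,1)],
  [(49,12)],
  [(50,1)],
  [(51,12)],
  [(52,12)],
  [(53,12)],
  [(54,1)],
  [(55,12)],
  [(56,12)],
  [(57,12)],
  [(58,1)],
  [(59,12)],
  [(60,1)],
  [(61,12)],
  [(62,12)],
  [(63,12)],
  [(64,12)],
  [(65,12)],
  [(66,12)],
  [(67,1)],
  [(68,12)],
  [(69,12)],
  [(70,12)],
  [(71,1)],
  [(72,12)],
  [(73,12)],
  [(74,1)],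
  [(75,12)],
  [(76,12)],
  [(77,12)]]

/-- generator 6 -/
def mat6 : List (List (ℕ × ℕ)) := [
  [(0,6), (35,11)],
  [(1,3), (5,10), (11,10), (13,3), (22,10), (24,3), (41,3), (43,10), (51,10), (52,10), (61,3), (62,3), (66,3), (67,10), (73,10), (74,3)],
  [(2,6), (23,6), (42,7), (63,7)],
  [(3,6), (25,7), (44,6), (60,7)],
  [(4,6), (6,6), (12,6), (76,6)],
  [(1,10), (5,3), (11,3), (13,10), (22,10), (24,3), (41,10), (43,3), (51,10), (52,10), (61,3), (62,3), (66,10), (67,3), (73,10), (74,3)],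
  [(4,6), (6,6), (12,7), (76,7)],
  [(7,6), (21,6), (46,7), (58,7)],
  [(8,6), (9,7), (50,6), (57,7)],
  [(8,7), (9,6), (50,6), (57,7)],
  [(10,6), (20,7), (45,6), (59,7)],
  [(1,10), (5,3), (11,3), (13,10), (22,3), (24,10), (41,3), (43,10), (51,10), (52,10), (61,3), (62,3), (66,3), (67,10), (73,3), (74,10)],
  [(4,6), (6,7), (12,6), (76,7)],
  [(1,3), (5,10), (11,10), (13,3), (22,3), (24,10), (41,10), (43,3), (51,10), (52,10), (61,3), (62,3), (66,10), (67,3), (73,3), (74,10)],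
  [(14,6), (16,6), (49,7), (68,7)],
  [(15,6), (27,6), (48,7), (65,7)],
  [(14,6), (16,6), (49,6), (68,6)],
  [(17,6), (28,7), (47,6), (64,7)],
  [(18,6), (19,6), (26,6), (75,6)],
  [(18,6), (19,6), (26,7), (75,7)],
  [(10,7), (20,6), (45,6), (59,7)],
  [(7,6), (21,6), (46,6), (58,6)],
  [(1,10), (5,10), (11,3), (13,3), (22,3), (24,10), (41,10), (43,10), (51,3), (52,10), (61,10), (62,3), (66,3), (67,3), (73,10), (74,3)],
  [(2,6), (23,6), (42,6), (63,6)],
  [(1,3), (5,3), (11,10), (13,10), (22,10), (24,3), (41,10), (43,10), (51,3), (52,10), (61,10), (62,3), (66,3), (67,3), (73,3), (74,10)],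
  [(3,7), (25,6), (44,6), (60,7)],
  [(18,6), (19,7), (26,6), (75,7)],
  [(15,6), (27,6), (48,6), (65,6)],
  [(17,7), (28,6), (47,6), (64,7)],
  [(29,6), (30,6), (53,7), (72,7)],
  [(29,6), (30,6), (53,6), (72,6)],
  [(31,6), (33,6), (40,6), (77,6)],
  [(32,6), (39,6), (55,7), (70,7)],
  [(31,6), (33,6), (40,7), (77,7)],
  [(34,6), (38,7), (54,6), (69,7)],
  [(0,11), (35,7)],
  [(36,6), (37,7), (56,6), (71,7)],
  [(36,7), (37,6), (56,6), (71,7)],
  [(34,7), (38,6), (54,6), (69,7)],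
  [(32,6), (39,6), (55,6), (70,6)],
  [(31,6), (33,7), (40,6), (77,7)],
  [(1,3), (5,10), (11,3), (13,10), (22,10), (24,10), (41,3), (43,10), (51,10), (52,3), (61,10), (62,3), (66,10), (67,3), (73,3), (74,3)],
  [(2,7), (23,6), (42,6), (63,7)],
  [(1,10), (5,3), (11,10), (13,3), (22,10), (24,10), (41,10), (43,3), (51,10), (52,3), (61,10), (62,3), (66,3), (67,10), (73,3), (74,3)],
  [(3,6), (25,6), (44,6), (60,6)],
  [(10,6), (20,6), (45,6), (59,6)],
  [(7,7), (21,6), (46,6), (58,7)],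
  [(17,6), (28,6), (47,6), (64,6)],
  [(15,7), (27,6), (48,6), (65,7)],
  [(14,7), (16,6), (49,6), (68,7)],
  [(8,6), (9,6), (50,6), (57,6)],
  [(1,10), (5,10), (11,10), (13,10), (22,3), (24,3), (41,10), (43,10), (51,3), (52,3), (61,3), (62,3), (66,10), (67,10), (73,3), (74,3)],
  [(1,10), (5,10), (11,10), (13,10), (22,10), (24,10), (41,3), (43,3), (51,3), (52,3), (61,3), (62,3), (66,3), (67,3), (73,10), (74,10)],
  [(29,7), (30,6), (53,6), (72,7)],
  [(34,6), (38,6), (54,6), (69,6)],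
  [(32,7), (39,6), (55,6), (70,7)],
  [(36,6), (37,6), (56,6), (71,6)],
  [(8,7), (9,7), (50,6), (57,6)],
  [(7,7), (21,6), (46,7), (58,6)],
  [(10,7), (20,7), (45,6), (59,6)],
  [(3,7), (25,7), (44,6), (60,6)],
  [(1,3), (5,3), (11,3), (13,3), (22,10), (24,10), (41,10), (43,10), (51,3), (52,3), (61,3), (62,3), (66,10), (67,10), (73,10), (74,10)],
  [(1,3), (5,3), (11,3), (13,3), (22,3), (24,3), (41,3), (43,3), (51,3), (52,3), (61,3), (62,3), (66,3), (67,3), (73,3), (74,3)],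
  [(2,7), (23,6), (42,7), (63,6)],
  [(17,7), (28,7), (47,6), (64,6)],
  [(15,7), (27,6), (48,7), (65,6)],
  [(1,3), (5,10), (11,3), (13,10), (22,3), (24,3), (41,10), (43,3), (51,10), (52,3), (61,10), (62,3), (66,3), (67,10), (73,10), (74,10)],
  [(1,10), (5,3), (11,10), (13,3), (22,3), (24,3), (41,3), (43,10), (51,10), (52,3), (61,10), (62,3), (66,10), (67,3), (73,10), (74,10)],
  [(14,7), (16,6), (49,7), (68,6)],
  [(34,7), (38,7), (54,6), (69,6)],
  [(32,7), (39,6), (55,7), (70,6)],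
  [(36,7), (37,7), (56,6), (71,6)],
  [(29,7), (30,6), (53,7), (72,6)],
  [(1,10), (5,10), (11,3), (13,3), (22,10), (24,3), (41,3), (43,3), (51,3), (52,10), (61,10), (62,3), (66,10), (67,10), (73,3), (74,10)],
  [(1,3), (5,3), (11,10), (13,10), (22,3), (24,10), (41,3), (43,3), (51,3), (52,10), (61,10), (62,3), (66,10), (67,10), (73,10), (74,3)],
  [(18,6), (19,7), (26,7), (75,6)],
  [(4,6), (6,7), (12,7), (76,6)],
  [(31,6), (33,7), (40,7), (77,6)]]

/-- generator 7 -/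
def mat7 : List (List (ℕ × ℕ)) := [
  [(0,6), (50,2)],
  [(1,3), (6,10), (12,10), (13,3), (15,10), (17,3), (32,10), (34,3), (36,3), (37,3), (61,3), (62,3), (64,3), (65,10), (69,3), (70,10)],
  [(2,6), (16,7), (33,7), (60,7)],
  [(3,6), (14,6), (31,6), (63,7)],
  [(4,6), (5,6), (11,6), (71,7)],
  [(4,6), (5,6), (11,7), (71,6)],
  [(1,10), (6,3), (12,3), (13,10), (15,3), (17,10), (32,10), (34,3), (36,3), (37,3), (61,3), (62,3), (64,3), (65,10), (69,10), (70,3)],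
  [(7,6), (19,6), (30,6), (59,7)],
  [(8,6), (9,7), (35,7), (57,7)],
  [(8,7), (9,6), (35,7), (57,7)],
  [(10,6), (18,7), (29,7), (58,7)],
  [(4,6), (5,7), (11,6), (71,6)],
  [(1,10), (6,3), (12,3), (13,10), (15,10), (17,3), (32,3), (34,10), (36,3), (37,3), (61,3), (62,3), (64,10), (65,3), (69,3), (70,10)],
  [(1,3), (6,10), (12,10), (13,3), (15,3), (17,10), (32,3), (34,10), (36,3), (37,3), (61,3), (62,3), (64,10), (65,3), (69,10), (70,3)],
  [(3,6), (14,6), (31,7), (63,6)],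
  [(1,10), (6,3), (12,10), (13,3), (15,3), (17,10), (32,3), (34,3), (36,10), (37,3), (61,3), (62,10), (64,3), (65,3), (69,3), (70,10)],
  [(2,7), (16,6), (33,7), (60,7)],
  [(1,3), (6,10), (12,3), (13,10), (15,10), (17,3), (32,3), (34,3), (36,10), (37,3), (61,3), (62,10), (64,3), (65,3), (69,10), (70,3)],
  [(10,7), (18,6), (29,7), (58,7)],
  [(7,6), (19,6), (30,7), (59,6)],
  [(20,6), (21,6), (26,6), (72,7)],
  [(20,6), (21,6), (26,7), (72,6)],
  [(22,6), (28,6), (39,6), (67,7)],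
  [(23,6), (25,6), (40,6), (68,7)],
  [(24,6), (27,7), (38,7), (66,7)],
  [(23,6), (25,6), (40,7), (68,6)],
  [(20,6), (21,7), (26,6), (72,6)],
  [(24,7), (27,6), (38,7), (66,7)],
  [(22,6), (28,6), (39,7), (67,6)],
  [(10,7), (18,7), (29,6), (58,7)],
  [(7,6), (19,7), (30,6), (59,6)],
  [(3,6), (14,7), (31,6), (63,6)],
  [(1,10), (6,10), (12,3), (13,3), (15,3), (17,3), (32,3), (34,10), (36,10), (37,3), (61,10), (62,3), (64,3), (65,10), (69,3), (70,3)],
  [(2,7), (16,7), (33,6), (60,7)],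
  [(1,3), (6,3), (12,10), (13,10), (15,3), (17,3), (32,10), (34,3), (36,10), (37,3), (61,10), (62,3), (64,10), (65,3), (69,3), (70,3)],
  [(8,7), (9,7), (35,6), (57,7)],
  [(1,3), (6,3), (12,3), (13,3), (15,10), (17,10), (32,10), (34,10), (36,3), (37,3), (61,10), (62,10), (64,3), (65,3), (69,3), (70,3)],
  [(1,3), (6,3), (12,3), (13,3), (15,3), (17,3), (32,3), (34,3), (36,3), (37,3), (61,10), (62,10), (64,10), (65,10), (69,10), (70,10)],
  [(24,7), (27,7), (38,6), (66,7)],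
  [(22,6), (28,7), (39,6), (67,6)],
  [(23,6), (25,7), (40,6), (68,6)],
  [(41,6), (48,6), (54,6), (74,7)],
  [(42,6), (44,6), (49,6), (77,7)],
  [(43,6), (47,7), (55,7), (73,7)],
  [(42,6), (44,6), (49,7), (77,6)],
  [(45,6), (46,6), (53,6), (75,7)],
  [(45,6), (46,6), (53,7), (75,6)],
  [(43,7), (47,6), (55,7), (73,7)],
  [(41,6), (48,6), (54,7), (74,6)],
  [(42,6), (44,7), (49,6), (77,6)],
  [(0,2), (50,7)],
  [(51,6), (52,7), (56,7), (76,7)],
  [(51,7), (52,6), (56,7), (76,7)],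
  [(45,6), (46,7), (53,6), (75,6)],
  [(41,6), (48,7), (54,6), (74,6)],
  [(43,7), (47,7), (55,6), (73,7)],
  [(51,7), (52,7), (56,6), (76,7)],
  [(8,7), (9,7), (35,7), (57,6)],
  [(10,7), (18,7), (29,7), (58,6)],
  [(7,7), (19,6), (30,6), (59,6)],
  [(2,7), (16,7), (33,7), (60,6)],
  [(1,3), (6,3), (12,3), (13,3), (15,3), (17,3), (32,10), (34,10), (36,10), (37,10), (61,3), (62,3), (64,3), (65,3), (69,10), (70,10)],
  [(1,3), (6,3), (12,3), (13,3), (15,10), (17,10), (32,3), (34,3), (36,10), (37,10), (61,3), (62,3), (64,10), (65,10), (69,3), (70,3)],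
  [(3,7), (14,6), (31,6), (63,6)],
  [(1,3), (6,3), (12,10), (13,10), (15,3), (17,3), (32,3), (34,10), (36,3), (37,10), (61,3), (62,10), (64,3), (65,10), (69,3), (70,3)],
  [(1,10), (6,10), (12,3), (13,3), (15,3), (17,3), (32,10), (34,3), (36,3), (37,10), (61,3), (62,10), (64,10), (65,3), (69,3), (70,3)],
  [(24,7), (27,7), (38,7), (66,6)],
  [(22,7), (28,6), (39,6), (67,6)],
  [(23,7), (25,6), (40,6), (68,6)],
  [(1,3), (6,10), (12,3), (13,10), (15,3), (17,10), (32,3), (34,3), (36,3), (37,10), (61,10), (62,3), (64,3), (65,3), (69,3), (70,10)],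
  [(1,10), (6,3), (12,10), (13,3), (15,10), (17,3), (32,3), (34,3), (36,3), (37,10), (61,10), (62,3), (64,3), (65,3), (69,10), (70,3)],
  [(4,7), (5,6), (11,6), (71,6)],
  [(20,7), (21,6), (26,6), (72,6)],
  [(43,7), (47,7), (55,7), (73,6)],
  [(41,7), (48,6), (54,6), (74,6)],
  [(45,7), (46,6), (53,6), (75,6)],
  [(51,7), (52,7), (56,7), (76,6)],
  [(42,7), (44,6), (49,6), (77,6)]]

/-- generator 8 -/
def mat8 : List (List (ℕ × ℕ)) := [
  [(0,1)],
  [(1,12)],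
  [(2,12)],
  [(3,12)],
  [(4,12)],
  [(5,12)],
  [(6,12)],
  [(7,12)],
  [(8,12)],
  [(9,12)],
  [(10,12)],
  [(11,12)],
  [(12,12)],
  [(13,12)],
  [(14,1)],
  [(15,1)],
  [(16,1)],
  [(17,1)],
  [(18,1)],
  [(19,1)],
  [(20,12)],
  [(21,12)],
  [(22,12)],
  [(23,12)],
  [(24,12)],
  [(25,12)],
  [(26,1)],
  [(27,1)],
  [(28,1)],
  [(29,12)],
  [(30,12)],
  [(31,12)],
  [(32,12)],
  [(33,12)],
  [(34,12)],
  [(35,1)],
  [(36,1)],
  [(37,1)],
  [(38,12)],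
  [(39,12)],
  [(40,12)],
  [(41,12)],
  [(42,12)],
  [(43,12)],
  [(44,12)],
  [(45,12)],
  [(46,12)],
  [(47,1)],
  [(48,1)],
  [(49,1)],
  [(50,12)],
  [(51,12)],
  [(52,12)],
  [(53,12)],
  [(54,12)],
  [(55,12)],
  [(56,1)],
  [(57,12)],
  [(58,12)],
  [(59,12)],
  [(60,12)],
  [(61,12)],
  [(62,12)],
  [(63,12)],
  [(64,1)],
  [(65,1)],
  [(66,12)],
  [(67,12)],
  [(68,1)],
  [(69,12)],
  [(70,12)],
  [(71,1)],
  [(72,12)],
  [(73,12)],
  [(74,12)],
  [(75,1)],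
  [(76,12)],
  [(77,12)]]

/-- the generators by number -/
def mats (x : ℕ) : List (List (ℕ × ℕ)) :=
  [mat0, mat1, mat2, mat3, mat4, mat5, mat6, mat7, mat8].getD x []

end CfsgLib.Recog.SporBound.Fi22Mat
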