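import Cfsg.Agent.Lib.Recog.SporBound.Fi22Mat.Packed
import Cfsg.Agent.Lib.Recog.SporBound.Fi22Mat.Data

/-!
# The relators of Y332 hold in the sparse matrices
-/

set_option autoImplicit false
set_option maxRecDepth 20000
set_option maxHeartbeats 2000000
set_option Elab.async false

namespace CfsgLib.Recog.SporBound.Fi22Mat

/-- the label of two numbered nodes -/
def label (x y : ℕ) : ℕ :=
  bif x == y then 1 else
    bif [(0, 1), (1, 2), (2, 3), (3, 4), (4, 5), (5, 6), (3, 7), (7, 8)].contains (x, y) then 3 else 2

/-- the word of an unordered pair -/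
def pairWord (x y : ℕ) : List ℕ := (List.replicate (label x y) [x, y]).flatten

/-- the unordered pairs -/
def pairs : List (ℕ × ℕ) := (List.range 9).flatMap fun x => ((List.range 9).filter fun y => x ≤ y).map fun y => (x, y)

theorem rows_check : ((List.range 9).all fun x => rowsOK 78 (mats x)) = true := by decide +kernel

theorem pairs_check : (pairs.all fun p => evalWord mats (pairWord p.1 p.2) == idEnc) = true := by decide +kernel

theorem spider_check : evalWord mats (List.replicate 10 [3, 2, 1, 3, 4, 5, 3, 7, 8]).flatten = idEnc := by
  decide +kernel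

theorem left_check : evalWord mats (List.replicate 9 [0, 1, 2, 3, 4, 5, 7]).flatten = idEnc := by decide +kernel

theorem right_check : evalWord mats (List.replicate 9 [1, 2, 3, 4, 5, 6, 7]).flatten = idEnc := by decide +kernel

theorem nontrivial_check : evalWord mats [0] ≠ idEnc := by decide +kernel

theorem toMat_prod {w : List ℕ} (hw : ∀ x ∈ w, x < 9) (h : evalWord mats w = idEnc) :
    (w.map fun x => toMat 78 (mats x)).prod = 1 := by
  refine enc_injective ?_
  rw [← evalWord_eq fun x hx => List.all_eq_true.1 rows_check x (List.mem_range.2 (hw x hx)), h, enc_one]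

end CfsgLib.Recog.SporBound.Fi22Mat
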