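import Cfsg.Agent.Lib.Recog.SporBound.Fi22Mat.Check
import Cfsg.Agent.Lib.Recog.SporBound.Fi22Group
import Cfsg.Prelude.Def_Spor_Fi22

/-!
# The presented Fischer group inside `GL 78` over thirteen elements
-/

set_option autoImplicit false
set_option maxRecDepth 20000

namespace CfsgLib.Recog.SporBound.Fi22Mat

open Cfsg

/-- the number of a generator -/
def idx : Spor.Fi22.Gen → ℕ
  | .a => 0
  | .b => 1
  | .c => 2
  | .d => 3
  | .e => 4
  | .f => 5
  | .g => 6
  | .h => 7
  | .i => 8

theorem idx_lt : ∀ x, idx x < 9 := by intro x; cases x <;> decide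

theorem idx_sq (x : Spor.Fi22.Gen) : toMat 78 (mats (idx x)) * toMat 78 (mats (idx x)) = 1 := by
  have hmem : (idx x, idx x) ∈ pairs := by cases x <;> decide
  have h := List.all_eq_true.1 pairs_check _ hmem
  rw [beq_iff_eq] at h
  have h2 : pairWord (idx x) (idx x) = [idx x, idx x] := by simp [pairWord, label]
  rw [h2] at h
  have := toMat_prod (by simp [idx_lt]) h
  simpa using this

/-- the image of a generator -/
def image (x : Spor.Fi22.Gen) : GL (Fin 78) (ZMod 13) :=
  ⟨toMat 78 (mats (idx x)), toMat 78 (mats (idx x)), idx_sq x, idx_sq x⟩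

theorem val_word (w : List Spor.Fi22.Gen) :
    (((w.map image).prod : GL (Fin 78) (ZMod 13)) : Mat 78) = ((w.map idx).map fun x => toMat 78 (mats x)).prod := by
  induction w with
  | nil => rfl
  | cons x w ih => simp only [List.map_cons, List.prod_cons, Units.val_mul, ih]; rfl

theorem word_eq_one (w : List Spor.Fi22.Gen) (h : evalWord mats (w.map idx) = idEnc) : (w.map image).prod = 1 := by
  refine Units.ext ?_
  rw [val_word, toMat_prod (by simp [idx_lt]) h]
  rfl

theorem prod_flatten_replicate {M : Type*} [Monoid M] (m : ℕ) (l : List M) :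
    (List.replicate m l).flatten.prod = l.prod ^ m := by
  induction m with
  | zero => simp
  | succ m ih => simp [List.replicate_succ, ih, pow_succ']

theorem map_pow_word (m : ℕ) (w : List Spor.Fi22.Gen)
    (h : evalWord mats (List.replicate m (w.map idx)).flatten = idEnc) : (w.map image).prod ^ m = 1 := by
  rw [← prod_flatten_replicate, ← List.map_replicate, ← List.map_flatten]
  refine word_eq_one _ ?_
  rwa [List.map_flatten, List.map_replicate]

theorem label_eq : ∀ x y : Spor.Fi22.Gen, idx x ≤ idx y →
    Spor.coxLabel Spor.Fi22.edges x y = label (idx x) (idx y) ∧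
    Spor.coxLabel Spor.Fi22.edges y x = label (idx x) (idx y) ∧ (idx x, idx y) ∈ pairs := by
  intro x y
  cases x <;> cases y <;> decide

theorem pair_rel (x y : Spor.Fi22.Gen) : (image x * image y) ^ Spor.coxLabel Spor.Fi22.edges x y = 1 := by
  have key : ∀ x y, idx x ≤ idx y → (image x * image y) ^ label (idx x) (idx y) = 1 := by
    intro x y hxy
    have h := List.all_eq_true.1 pairs_check _ (label_eq x y hxy).2.2
    rw [beq_iff_eq] at h
    have := map_pow_word (label (idx x) (idx y)) [x, y] h
    simpa using this
  rcases le_total (idx x) (idx y) with h | h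
  · rw [(label_eq x y h).1]; exact key x y h
  · rw [(label_eq y x h).2.1]
    have e := key y x h
    have hc : image x * image y = (image y)⁻¹ * (image y * image x) * image y := by group
    rw [hc, show ((image y)⁻¹ * (image y * image x) * image y) =
      (image y)⁻¹ * (image y * image x) * ((image y)⁻¹)⁻¹ by rw [inv_inv], conj_pow, e]
    group

theorem rels_one : ∀ r ∈ Spor.coxRelators Spor.Fi22.edges ∪ {r | r ∈ Spor.Fi22.extra},
    FreeGroup.lift image r = 1 := by
  rintro r (⟨x, -, y, -, rfl⟩ | hr)
  · simp only [map_pow, map_mul, FreeGroup.lift_apply_of]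
    exact pair_rel x y
  · simp only [Spor.Fi22.extra, Set.mem_setOf_eq, List.mem_cons, List.not_mem_nil, or_false] at hr
    rcases hr with rfl | rfl | rfl
    · have h := map_pow_word 10 [.d, .c, .b, .d, .e, .f, .d, .h, .i] spider_check
      simpa [mul_assoc] using h
    · have h := map_pow_word 9 [.a, .b, .c, .d, .e, .f, .h] left_check
      simpa [mul_assoc] using h
    · have h := map_pow_word 9 [.b, .c, .d, .e, .f, .g, .h] right_check
      simpa [mul_assoc] using h

/-- the representation -/
def rep : Spor.Fi22 →* GL (Fin 78) (ZMod 13) := PresentedGroup.toGroup rels_one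

theorem rep_injective : Function.Injective rep := by
  have := Fi22Group.isSimple
  rw [← MonoidHom.ker_eq_bot_iff]
  refine (IsSimpleGroup.eq_bot_or_eq_top_of_normal rep.ker inferInstance).resolve_right fun h => ?_
  have h0 : rep (PresentedGroup.of Spor.Fi22.Gen.a) = 1 := by
    rw [← MonoidHom.mem_ker, h]; exact Subgroup.mem_top _
  rw [rep, PresentedGroup.toGroup.of] at h0
  have h1 : toMat 78 (mats 0) = 1 := congrArg Units.val h0
  refine nontrivial_check ?_
  rw [evalWord_eq (w := [0]) (fun x hx => List.all_eq_true.1 rows_check x (by simp at hx; simp [hx])),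
    List.map_cons, List.map_nil, List.prod_cons, List.prod_nil, mul_one, h1, enc_one]

end CfsgLib.Recog.SporBound.Fi22Mat
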