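import Mathlib

/-!
# Sparse matrices over thirteen elements times packed matrices

A row of natural numbers below thirteen is packed into one natural number with 64 bits to a slot, so that a
sparse row times a packed matrix is one linear combination followed by one slotwise reduction.
-/

set_option autoImplicit false
set_option maxRecDepth 8000

namespace CfsgLib.Recog.SporBound.Fi22Mat

/-- pack a tuple into 64-bit slots -/
def packF : (n : ℕ) → (Fin n → ℕ) → ℕ
  | 0, _ => 0
  | n + 1, f => f 0 + 2 ^ 64 * packF n fun i => f i.succ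

theorem packF_add : ∀ (n : ℕ) (f g : Fin n → ℕ), packF n f + packF n g = packF n fun i => f i + g i
  | 0, _, _ => rfl
  | n + 1, f, g => by simp only [packF, ← packF_add n]; ring

theorem packF_smul : ∀ (n c : ℕ) (f : Fin n → ℕ), c * packF n f = packF n fun i => c * f i
  | 0, _, _ => by simp [packF]
  | n + 1, c, f => by simp only [packF, ← packF_smul n c]; ring

theorem packF_zero : ∀ n : ℕ, packF n (fun _ => 0) = 0
  | 0 => rfl
  | n + 1 => by simp [packF, packF_zero n]

theorem packF_inj : ∀ (n : ℕ) (f g : Fin n → ℕ), (∀ i, f i < 2 ^ 64) → (∀ i, g i < 2 ^ 64) →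
    packF n f = packF n g → f = g
  | 0, f, g, _, _, _ => funext fun i => i.elim0
  | n + 1, f, g, hf, hg, h => by
    simp only [packF] at h
    have h0 : f 0 = g 0 := by
      have := congrArg (· % 2 ^ 64) h
      rwa [Nat.add_mul_mod_self_left, Nat.add_mul_mod_self_left, Nat.mod_eq_of_lt (hf 0),
        Nat.mod_eq_of_lt (hg 0)] at this
    have h1 := packF_inj n _ _ (fun i => hf i.succ) (fun i => hg i.succ)
      (by rw [h0] at h; omega)
    funext i
    refine Fin.cases h0 (fun j => ?_) i
    exact congrFun h1 j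

/-- the low half of every slot -/
def maskN : ℕ → ℕ
  | 0 => 0
  | n + 1 => (2 ^ 32 - 1) + 2 ^ 64 * maskN n

theorem land_block {a b c d : ℕ} (ha : a < 2 ^ 64) (hc : c < 2 ^ 64) :
    (a + 2 ^ 64 * b) &&& (c + 2 ^ 64 * d) = (a &&& c) + 2 ^ 64 * (b &&& d) := by
  have hac : a &&& c < 2 ^ 64 := lt_of_le_of_lt Nat.and_le_left ha
  refine Nat.eq_of_testBit_eq fun i => ?_
  rw [Nat.testBit_and, add_comm a, add_comm c, add_comm (a &&& c),
    Nat.testBit_two_pow_mul_add _ ha, Nat.testBit_two_pow_mul_add _ hc, Nat.testBit_two_pow_mul_add _ hac]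
  split <;> simp [Nat.testBit_and]

theorem shift_land : ∀ (n : ℕ) (f : Fin n → ℕ), (∀ i, f i < 2 ^ 64) →
    (packF n f >>> 32) &&& maskN n = packF n fun i => f i / 2 ^ 32
  | 0, _, _ => by simp [packF, maskN]
  | n + 1, f, hf => by
    simp only [packF, maskN]
    set P := packF n fun i => f i.succ with hP
    have h0 := hf 0
    have hs : (f 0 + 2 ^ 64 * P) >>> 32 =
        (f 0 / 2 ^ 32 + 2 ^ 32 * (P % 2 ^ 32)) + 2 ^ 64 * (P >>> 32) := by
      simp only [Nat.shiftRight_eq_div_pow]
      omega
    have hlt : f 0 / 2 ^ 32 + 2 ^ 32 * (P % 2 ^ 32) < 2 ^ 64 := by omega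
    rw [hs, land_block hlt (by norm_num), hP, shift_land n _ fun i => hf i.succ]
    congr 1
    rw [Nat.and_two_pow_sub_one_eq_mod]
    omega

/-- reduce every slot modulo thirteen -/
def red (n x : ℕ) : ℕ := x - 13 * (((x * 330382100) >>> 32) &&& maskN n)

theorem red_packF {n : ℕ} (f : Fin n → ℕ) (hf : ∀ i, f i < 2 ^ 27) : red n (packF n f) = packF n fun i => f i % 13 := by
  rw [red, mul_comm (packF n f), packF_smul,
    shift_land _ _ fun i => by have := hf i; omega]
  have hq : ∀ i, 330382100 * f i / 2 ^ 32 = f i / 13 := fun i => by have := hf i; omega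
  simp only [hq]
  rw [packF_smul]
  have : packF n f = packF n (fun i => f i % 13) + packF n fun i => 13 * (f i / 13) := by
    rw [packF_add]
    congr 1
    funext i
    omega
  omega

/-- a sparse matrix -/
abbrev Sparse : Type := List (List (ℕ × ℕ))

/-- square matrices over thirteen elements -/
abbrev Mat (n : ℕ) : Type := Matrix (Fin n) (Fin n) (ZMod 13)

/-- the dense matrix of a sparse one -/
def toMat (n : ℕ) (S : Sparse) : Mat n :=
  Matrix.of fun i j => ((S.getD i.val []).map fun e => if e.1 = j.val then (e.2 : ZMod 13) else 0).sum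

/-- sparse times packed -/
def spmul (n : ℕ) (S : Sparse) (R : List ℕ) : List ℕ := S.map fun row => red n (row.map fun e => e.2 * R.getD e.1 0).sum

/-- the side conditions on a sparse matrix -/
def rowsOK (n : ℕ) (S : Sparse) : Bool :=
  S.length == n && S.all fun row => (row.all fun e => decide (e.1 < n)) && decide ((row.map Prod.snd).sum ≤ 1000000)

/-- packed form of a matrix -/
def enc {n : ℕ} (A : Mat n) : List ℕ := List.ofFn fun i => packF n fun j => (A i j).val

/-- packed form of the identity -/
def idEnc : List ℕ := (List.range 78).map fun i => 2 ^ (64 * i)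

theorem enc_one : enc (1 : Mat 78) = idEnc := by decide +kernel

theorem enc_injective {n : ℕ} : Function.Injective (enc (n := n)) := by
  intro A B h
  have h' := List.ofFn_injective h
  ext i j
  refine ZMod.val_injective 13 ?_
  exact congrFun (packF_inj n _ _ (fun k => (ZMod.val_lt (A i k)).trans_le (by norm_num))
    (fun k => (ZMod.val_lt (B i k)).trans_le (by norm_num)) (congrFun h' i)) j

theorem getD_enc {n : ℕ} (A : Mat n) {k : ℕ} (hk : k < n) :
    (enc A).getD k 0 = packF n fun j => (A ⟨k, hk⟩ j).val := by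
  rw [enc, List.getD_eq_getElem _ _ (by rwa [List.length_ofFn]), List.getElem_ofFn]

theorem row_sum {n : ℕ} (A : Mat n) : ∀ row : List (ℕ × ℕ), (∀ e ∈ row, e.1 < n) →
    ∃ g : Fin n → ℕ, (row.map fun e => e.2 * (enc A).getD e.1 0).sum = packF n g ∧
      (∀ j, g j ≤ 12 * (row.map Prod.snd).sum) ∧
      ∀ j, (g j : ZMod 13) = ∑ k : Fin n, (row.map fun e => if e.1 = k.val then (e.2 : ZMod 13) else 0).sum * A k j
  | [], _ => ⟨fun _ => 0, by simp [packF_zero], by simp, by simp⟩
  | e :: row, h => by
    obtain ⟨g, h1, h2, h3⟩ := row_sum A row fun x hx => h x (List.mem_cons_of_mem _ hx)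
    have he := h e List.mem_cons_self
    refine ⟨fun j => e.2 * (A ⟨e.1, he⟩ j).val + g j, ?_, fun j => ?_, fun j => ?_⟩
    · rw [List.map_cons, List.sum_cons, h1, getD_enc A he, packF_smul, packF_add]
    · show e.2 * (A ⟨e.1, he⟩ j).val + g j ≤ _
      rw [List.map_cons, List.sum_cons, mul_add]
      have := ZMod.val_lt (A ⟨e.1, he⟩ j)
      have : e.2 * (A ⟨e.1, he⟩ j).val ≤ 12 * e.2 := by
        rw [mul_comm 12 e.2]; exact Nat.mul_le_mul_left _ (by omega)
      have := h2 j
      omega
    · simp only [List.map_cons, List.sum_cons, add_mul]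
      rw [Finset.sum_add_distrib, Nat.cast_add, Nat.cast_mul, ZMod.natCast_zmod_val, h3 j]
      congr 1
      rw [Finset.sum_eq_single (⟨e.1, he⟩ : Fin n)]
      · simp
      · intro b _ hb
        rw [if_neg fun hh => hb (Fin.ext hh.symm), zero_mul]
      · simp

theorem spmul_enc {n : ℕ} {S : Sparse} (hS : rowsOK n S = true) (A : Mat n) : spmul n S (enc A) = enc (toMat n S * A) := by
  simp only [rowsOK, Bool.and_eq_true, beq_iff_eq, List.all_eq_true, decide_eq_true_iff] at hS
  obtain ⟨hlen, hrows⟩ := hS
  refine List.ext_getElem (by simp [spmul, enc, hlen]) fun i h1 h2 => ?_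
  have hi : i < S.length := by simpa [spmul] using h1
  obtain ⟨hk, hsum⟩ := hrows S[i] (List.getElem_mem hi)
  obtain ⟨g, g1, g2, g3⟩ := row_sum A S[i] hk
  simp only [spmul, enc, List.getElem_map, List.getElem_ofFn]
  show red n (List.map (fun e => e.2 * (enc A).getD e.1 0) S[i]).sum = _
  rw [g1, red_packF g fun j => lt_of_le_of_lt (g2 j) (by omega)]
  congr 1
  funext j
  rw [← ZMod.val_natCast, g3 j, Matrix.mul_apply]
  simp only [toMat, Matrix.of_apply, List.getD_eq_getElem _ _ hi]

/-- the packed value of a word in sparse matrices -/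
def evalWord (M : ℕ → Sparse) (w : List ℕ) : List ℕ := w.foldr (fun x R => spmul 78 (M x) R) idEnc

theorem evalWord_eq {M : ℕ → Sparse} : ∀ {w : List ℕ}, (∀ x ∈ w, rowsOK 78 (M x) = true) →
    evalWord M w = enc (w.map fun x => toMat 78 (M x)).prod
  | [], _ => by rw [List.map_nil, List.prod_nil, enc_one]; rfl
  | x :: w, h => by
    rw [List.map_cons, List.prod_cons, ← spmul_enc (h x List.mem_cons_self),
      ← evalWord_eq fun y hy => h y (List.mem_cons_of_mem _ hy)]
    rfl

end CfsgLib.Recog.SporBound.Fi22Mat
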